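import Groth.Agent.Lib.Zariski96.Remove
import Groth.Agent.Lib.PosLin.Asymp
import Groth.Agent.Lib.SurfInt.NefInt
import Groth.Agent.Lib.SurfInt.Nakai
import Groth.Agent.Lib.SurfInt.AmpleVanish
import Groth.Agent.S17633
import Groth.Agent.S17621

/-!
# Asymptotic cohomology on a surface: nef modules and Zariski decompositions
-/

set_option autoImplicit false
set_option linter.style.haveILetI false
set_option linter.unusedSectionVars false
universe u

open CategoryTheory CategoryTheory.Limits AlgebraicGeometry Filter Topology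

namespace Groth.Agent.Lib.Zariski96

open Groth.Agent.Lib Groth.Agent.Lib.Modules Groth.Agent.Lib.Snapper Groth.Agent.Lib.PosLin
open Groth.Agent.Lib.PosLin.CohBound Groth.Agent.Lib.PosLin.Asymp
open Groth.Agent.Lib.SurfInt
open Groth.Agent.Lib.TensorMod.Basic (comm assoc tensorIso leftUnit rightUnit)
open Groth.Agent.Lib.TensorMod.Invertible (isInvertible_tensorPow isInvertible_tensorMod
  isInvertible_dual tensorDualIso)

variable {k : Type u} [Field k] {X : Scheme.{u}} [X.Over (Spec (CommRingCat.of k))]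

/-- The degree on a curve of `X` is minus the intersection number with its ideal. -/
theorem curveDeg_eq [IsNoetherian X] [IsProper (X ↘ Spec (CommRingCat.of k))]
    (hdim : topologicalKrullDim X = 2) (C : X.IdealSheafData)
    (hI : PicF.IsInvertible (_root_.ClSub.idealMod C))
    (hCd : topologicalKrullDim C.subscheme = 1) {L : X.Modules} (hL : PicF.IsInvertible L) :
    Pic13.curveDeg k (C.subschemeι ≫ (X ↘ Spec (CommRingCat.of k)))
        ((Scheme.Modules.pullback C.subschemeι).obj L) =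
      - FGA.intNum k X 2 ![_root_.ClSub.idealMod C, L] (Coh.structureModule X) := by
  letI := Surface.overSub (k := k) C
  haveI : IsLocallyNoetherian C.subscheme := LocallyOfFiniteType.isLocallyNoetherian C.subschemeι
  haveI : CompactSpace C.subscheme := QuasiCompact.compactSpace_of_compactSpace C.subschemeι
  haveI : IsNoetherian C.subscheme := ⟨⟩
  rw [Surface.intNum_ideal_eq_neg_deg (Finite.cohFinite k X) (d := 2) hdim.le hI hL, neg_neg]
  unfold Pic13.curveDeg Curv2.deg
  rw [Chi.euler_eq_eulerCharLE (d := 1) hCd.le, Chi.euler_eq_eulerCharLE (d := 1) hCd.le]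
  push_cast
  ring

/-- A nonnegative bounded sequence with upper limit zero tends to zero. -/
theorem tendsto_zero {n B : ℕ} {u : ℕ → ℕ} (hu : ∀ m, u m ≤ B * (m + 1) ^ n)
    (h : limsup (nrm n u) atTop ≤ 0) : Tendsto (nrm n u) atTop (𝓝 0) := by
  refine tendsto_order.mpr ⟨fun b hb => Eventually.of_forall fun m => hb.trans_le (nrm_nonneg n u m),
    fun b hb => eventually_lt_of_limsup_lt (h.trans_lt hb) (bounded_nrm hu)⟩

theorem limsup_nonneg {n B : ℕ} {u : ℕ → ℕ} (hu : ∀ m, u m ≤ B * (m + 1) ^ n) :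
    0 ≤ limsup (nrm n u) atTop :=
  le_limsup_of_frequently_le (Frequently.of_forall (nrm_nonneg n u)) (bounded_nrm hu)

theorem hhat_congr [IsProper (X ↘ Spec (CommRingCat.of k))] (n i : ℕ) {L L' : X.Modules} (e : L ≅ L') :
    W4c5asymptcohfn.hhat k X n i L = W4c5asymptcohfn.hhat k X n i L' := by
  rw [hhat_eq, hhat_eq]
  exact congrArg (fun v => limsup (nrm n v) atTop)
    (funext fun m => hd_congr (k := k) (Ample.Pow.powIso e m) i)

variable [IsAlgClosed k] [CharZero k] [IsIntegral X] [IsNoetherian X]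
  [IsProper (X ↘ Spec (CommRingCat.of k))] (hdim : topologicalKrullDim X = 2)
  {A₀ : X.Modules} (hA₀ : CohB1.IsAmple A₀)

include k hdim hA₀

theorem exists_pow_bound {A : X.Modules} (hA : PicF.IsInvertible A) (i : ℕ) :
    ∃ B : ℕ, ∀ m, hd k X (CohB1.tensorPow A m) i ≤ B * (m + 1) ^ 2 := by
  obtain ⟨B, hB⟩ := exists_bound_dim (k := k) (n := 2) (by exact_mod_cast hdim) hA₀ hA
    (Twist.isCoh_structureModule X) i
  exact ⟨B, fun m => (hd_congr (k := k) (leftUnit _) i).symm.trans_le (hB m)⟩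

/-- `χ(A^m) · 2/m² → A²`. -/
theorem tendsto_chi {A : X.Modules} (hA : PicF.IsInvertible A) :
    Tendsto (fun m => nrm 2 (fun m => hd k X (CohB1.tensorPow A m) 0) m -
        nrm 2 (fun m => hd k X (CohB1.tensorPow A m) 1) m +
        nrm 2 (fun m => hd k X (CohB1.tensorPow A m) 2) m) atTop
      (𝓝 (FGA.intNum k X 2 ![A, A] (Coh.structureModule X) : ℝ)) := by
  have hfin := Finite.cohFinite k X
  set I : ℝ := (FGA.intNum k X 2 ![A, A] (Coh.structureModule X) : ℝ)
  set c : ℝ := (FGA.eulerCharLE k X A 2 : ℝ)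
  set c₀ : ℝ := (FGA.eulerCharLE k X (Coh.structureModule X) 2 : ℝ)
  have hlim : Tendsto (fun m : ℕ => I + (2 * c - I - 2 * c₀) / (m : ℝ) +
      2 * c₀ / (m : ℝ) / (m : ℝ)) atTop (𝓝 I) := by
    have h1 := tendsto_const_div_atTop_nhds_zero_nat (2 * c - I - 2 * c₀)
    have h2 := (tendsto_const_div_atTop_nhds_zero_nat (2 * c₀)).div_atTop
      (tendsto_natCast_atTop_atTop (R := ℝ))
    simpa using ((tendsto_const_nhds (x := I)).add h1).add h2
  refine hlim.congr' ?_
  filter_upwards [eventually_ge_atTop 1] with m hm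
  obtain ⟨n, rfl⟩ : ∃ n, m = n + 1 := ⟨m - 1, by omega⟩
  have h := congrArg (Int.cast : ℤ → ℝ) (Hodge.two_mul_chi_pow hfin hdim hA n)
  push_cast at h
  have hchi : (FGA.eulerCharLE k X (CohB1.tensorPow A (n + 1)) 2 : ℝ) =
      (hd k X (CohB1.tensorPow A (n + 1)) 0 : ℝ) - (hd k X (CohB1.tensorPow A (n + 1)) 1 : ℝ) +
        (hd k X (CohB1.tensorPow A (n + 1)) 2 : ℝ) := by
    simp [FGA.eulerCharLE, Finset.sum_range_succ, hd, sub_eq_add_neg]
  rw [hchi] at h
  unfold nrm
  push_cast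
  have hn : (n : ℝ) + 1 ≠ 0 := by positivity
  field_simp
  push_cast [Nat.factorial]
  linear_combination -h

variable [Uncountable k] [Smooth (X ↘ Spec (CommRingCat.of k))]

/-- Higher asymptotic cohomology of a nef module on a surface vanishes. -/
theorem hhat_nef_eq_zero {P : X.Modules} (hP : PicF.IsInvertible P)
    (hnef : ∀ C : X.IdealSheafData, IsIntegral C.subscheme →
      topologicalKrullDim (C.support : Set X) = 1 →
        FGA.intNum k X 2 ![_root_.ClSub.idealMod C, P] (Coh.structureModule X) ≤ 0)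
    {i : ℕ} (hi : 1 ≤ i) : W4c5asymptcohfn.hhat k X 2 i P ≤ 0 := by
  have hfin := Finite.cohFinite k X
  have hreg := NegDef.regular_of_smooth (k := k) (X := X)
  have hn2 : topologicalKrullDim X = ((2 : ℕ) : WithBot ℕ∞) := by exact_mod_cast hdim
  have hamp : ∀ n : ℕ, CohB1.IsAmple (CohB1.tensorMod (CohB1.tensorPow P (n + 1)) A₀) := by
    intro n
    have hPn := isInvertible_tensorPow hP (n + 1)
    have hPA := isInvertible_tensorMod hPn hA₀.1
    have hO := Twist.isCoh_structureModule X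
    refine Nakai.isAmple (k := k) hdim hreg hA₀ hPA ?_ fun C hC hCd => ?_
    · have e1 := Hodge.intNum_pow_left hfin hdim hP hP n
      have e2 := Hodge.intNum_pow_left hfin hdim hP hPn n
      have e3 := Hodge.intNum_pow_left hfin hdim hP hA₀.1 n
      rw [IntNum.intNum_pair_tensor_left hfin hdim.le hPn hA₀.1 hPA hO,
        IntNum.intNum_pair_comm (CohB1.tensorPow P (n + 1)) (CohB1.tensorMod _ A₀),
        IntNum.intNum_pair_comm A₀ (CohB1.tensorMod _ A₀),
        IntNum.intNum_pair_tensor_left hfin hdim.le hPn hA₀.1 hPn hO,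
        IntNum.intNum_pair_tensor_left hfin hdim.le hPn hA₀.1 hA₀.1 hO, e2,
        IntNum.intNum_pair_comm P (CohB1.tensorPow P (n + 1)), e1,
        IntNum.intNum_pair_comm A₀ (CohB1.tensorPow P (n + 1)), e3]
      have h1 := NefInt.sq_nonneg_of_nef (k := k) hdim hP hA₀ hnef
      have h2 := NefInt.nonneg_ample (k := k) hdim hP hnef hA₀
      rw [IntNum.intNum_pair_comm] at h2
      have h3 := ConeForm.disc_int.self_pos hfin hdim hreg hA₀
      positivity
    · haveI := hC
      have hI := Effective.isInvertible_idealMod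
        (Curve.isEffCartier (X ↘ Spec (CommRingCat.of k)) hdim hreg C hCd)
      rw [IntNum.intNum_pair_comm, IntNum.intNum_pair_tensor_left hfin hdim.le hPn hA₀.1 hI hO,
        Hodge.intNum_pow_left hfin hdim hP hI n, IntNum.intNum_pair_comm P,
        IntNum.intNum_pair_comm A₀]
      have h1 := Surface.intNum_ample_neg hfin hdim hreg C hCd hA₀
      have h2 := mul_nonpos_of_nonneg_of_nonpos (Int.natCast_nonneg (n + 1)) (hnef C hC hCd)
      linarith
  obtain ⟨C, hC⟩ := Groth.Agent.S17633.result k X ⟨A₀, hA₀⟩ 2 hn2 2 ![P, A₀]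
    ![TensorMod.Dual.dual P, TensorMod.Dual.dual A₀]
    (by intro j; fin_cases j; exacts [hP, hA₀.1])
    (by intro j; fin_cases j; exacts [⟨tensorDualIso hP⟩, ⟨tensorDualIso hA₀.1⟩]) i
  have key : ∀ n : ℕ, W4c5asymptcohfn.hhat k X 2 i P * ((n : ℝ) + 1) ≤ 2 * |C| := by
    intro n
    have h := hC ![((n + 1 : ℕ) : ℤ), 1] ![((n + 1 : ℕ) : ℤ), 0]
    have ea : W4c5asymptcohfn.hhat k X 2 i
        (W4c5asymptcohfn.ztwist X ![P, A₀] ![TensorMod.Dual.dual P, TensorMod.Dual.dual A₀]
          ![((n + 1 : ℕ) : ℤ), 1]) = 0 := by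
      have e : W4c5asymptcohfn.ztwist X ![P, A₀] ![TensorMod.Dual.dual P, TensorMod.Dual.dual A₀]
          ![((n + 1 : ℕ) : ℤ), 1] ≅ CohB1.tensorMod (CohB1.tensorPow P (n + 1)) A₀ :=
        tensorIso (tensorIso (Iso.refl _) (rightUnit _ ≪≫ leftUnit _)) (tensorIso (Iso.refl _)
          (rightUnit _) ≪≫ leftUnit _) ≪≫ rightUnit _
      rw [hhat_congr 2 i e]
      obtain ⟨n₀, hn₀⟩ := AmpleVanish.exists_subsingleton k (hamp n) (Twist.isCoh_structureModule X)
      rw [hhat_eq]
      have hev : ∀ᶠ m in atTop, nrm 2 (fun m => hd k X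
          (CohB1.tensorPow (CohB1.tensorMod (CohB1.tensorPow P (n + 1)) A₀) m) i) m = 0 := by
        filter_upwards [eventually_ge_atTop n₀] with m hm
        obtain ⟨q, rfl⟩ : ∃ q, i = q + 1 := ⟨i - 1, by omega⟩
        haveI := hn₀ m hm q
        unfold nrm
        beta_reduce
        rw [← hd_congr (k := k) (leftUnit _) (q + 1),
          show hd k X _ (q + 1) = 0 from Module.finrank_zero_of_subsingleton]
        simp
      rw [limsup_congr hev, limsup_const]
    have eb : W4c5asymptcohfn.hhat k X 2 i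
        (W4c5asymptcohfn.ztwist X ![P, A₀] ![TensorMod.Dual.dual P, TensorMod.Dual.dual A₀]
          ![((n + 1 : ℕ) : ℤ), 0]) = ((n : ℝ) + 1) ^ 2 * W4c5asymptcohfn.hhat k X 2 i P := by
      have e : W4c5asymptcohfn.ztwist X ![P, A₀] ![TensorMod.Dual.dual P, TensorMod.Dual.dual A₀]
          ![((n + 1 : ℕ) : ℤ), 0] ≅ CohB1.tensorPow P (n + 1) :=
        tensorIso (tensorIso (Iso.refl _) (rightUnit _) ≪≫ rightUnit _) (tensorIso (Iso.refl _)
          (rightUnit _) ≪≫ leftUnit _) ≪≫ rightUnit _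
      rw [hhat_congr 2 i e, Groth.Agent.S17621.result k X ⟨A₀, hA₀⟩ 2 hn2 P hP (n + 1) (by omega) i]
      push_cast
      ring
    rw [ea, eb, zero_sub, abs_neg] at h
    set na : ℝ := max ‖(fun j : Fin 2 => (((![((n + 1 : ℕ) : ℤ), 1]) j : ℤ) : ℝ))‖
      ‖(fun j : Fin 2 => (((![((n + 1 : ℕ) : ℤ), 0]) j : ℤ) : ℝ))‖
    set nd : ℝ := ‖(fun j : Fin 2 => (((![((n + 1 : ℕ) : ℤ), 1]) j -
      (![((n + 1 : ℕ) : ℤ), 0]) j : ℤ) : ℝ))‖
    have hna : na ≤ (n : ℝ) + 1 := by
      refine max_le ?_ ?_ <;> refine (pi_norm_le_iff_of_nonneg (by positivity)).mpr fun j => ?_ <;>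
        fin_cases j <;> simp <;> first | positivity | exact (abs_of_nonneg (by positivity)).le
    have hnd : nd ≤ 1 := by
      refine (pi_norm_le_iff_of_nonneg zero_le_one).mpr fun j => ?_
      fin_cases j <;> simp
    have hna0 : 0 ≤ na := le_max_of_le_left (norm_nonneg _)
    have hnd0 : 0 ≤ nd := norm_nonneg _
    have hsum : (Finset.Icc 1 2).sum (fun q => na ^ (2 - q) * nd ^ q) ≤ ((n : ℝ) + 1) + 1 := by
      rw [show Finset.Icc 1 2 = {1, 2} from rfl, Finset.sum_pair (by norm_num)]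
      norm_num
      exact add_le_add ((mul_le_mul hna hnd hnd0 (by positivity)).trans_eq (mul_one _))
        (pow_le_one₀ hnd0 hnd)
    have hsum0 : 0 ≤ (Finset.Icc 1 2).sum (fun q => na ^ (2 - q) * nd ^ q) :=
      Finset.sum_nonneg fun q _ => by positivity
    have h2 := (le_abs_self _).trans (h.trans ((mul_le_mul_of_nonneg_right (le_abs_self C) hsum0).trans
      (mul_le_mul_of_nonneg_left hsum (abs_nonneg C))))
    have hn0 : (0 : ℝ) < (n : ℝ) + 1 := by positivity
    refine le_of_mul_le_mul_right (a := (n : ℝ) + 1) ?_ hn0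
    nlinarith [abs_nonneg C, (Nat.cast_nonneg n : (0 : ℝ) ≤ n)]
  refine le_of_not_gt fun hp => ?_
  obtain ⟨n, hn⟩ := exists_nat_gt (2 * |C| / W4c5asymptcohfn.hhat k X 2 i P)
  rw [div_lt_iff₀ hp] at hn
  nlinarith [key n]

/-- A nef module: `h⁰(P^m) · 2/m² → P²`, the higher ones tend to zero. -/
theorem tendsto_nef {P : X.Modules} (hP : PicF.IsInvertible P)
    (hnef : ∀ C : X.IdealSheafData, IsIntegral C.subscheme →
      topologicalKrullDim (C.support : Set X) = 1 →
        FGA.intNum k X 2 ![_root_.ClSub.idealMod C, P] (Coh.structureModule X) ≤ 0) :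
    Tendsto (nrm 2 fun m => hd k X (CohB1.tensorPow P m) 0) atTop
        (𝓝 (FGA.intNum k X 2 ![P, P] (Coh.structureModule X) : ℝ)) ∧
      Tendsto (nrm 2 fun m => hd k X (CohB1.tensorPow P m) 2) atTop (𝓝 0) := by
  obtain ⟨B₁, hB₁⟩ := exists_pow_bound (k := k) hdim hA₀ hP 1
  obtain ⟨B₂, hB₂⟩ := exists_pow_bound (k := k) hdim hA₀ hP 2
  have h1 := tendsto_zero hB₁ ((hhat_eq 2 1 P).symm.trans_le
    (hhat_nef_eq_zero hdim hA₀ hP hnef le_rfl))
  have h2 := tendsto_zero hB₂ ((hhat_eq 2 2 P).symm.trans_le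
    (hhat_nef_eq_zero hdim hA₀ hP hnef one_le_two))
  refine ⟨?_, h2⟩
  have h := ((tendsto_chi (k := k) hdim hA₀ hP).add h1).sub h2
  rw [add_zero, sub_zero] at h
  exact h.congr fun m => by ring

/-- **Asymptotic cohomology from a Zariski decomposition**, unnormalised. -/
theorem hhat_zariski {P LN Q : X.Modules} (hP : PicF.IsInvertible P) (hLN : PicF.IsInvertible LN)
    (hQ : Nonempty (Q ≅ CohB1.tensorMod P LN))
    (hnef : ∀ C : X.IdealSheafData, IsIntegral C.subscheme →
      topologicalKrullDim (C.support : Set X) = 1 →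
        FGA.intNum k X 2 ![_root_.ClSub.idealMod C, P] (Coh.structureModule X) ≤ 0)
    {s : ℕ} (N : Fin s → X.IdealSheafData)
    (hint : ∀ j, IsIntegral (N j).subscheme) (hNd : ∀ j, topologicalKrullDim ((N j).support : Set X) = 1)
    (O : Fin s → X.Modules) (hO : ∀ j, ClSub.IsInverseOf (_root_.ClSub.idealMod (N j)) (O j))
    (b : Fin s → ℕ) (hLNeq : Nonempty (LN ≅ FGA.multiTwist O b))
    (hneg : (-(Matrix.of fun j l : Fin s =>
      FGA.intNum k X 2 ![_root_.ClSub.idealMod (N j), _root_.ClSub.idealMod (N l)]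
        (Coh.structureModule X))).PosDef)
    (horth : ∀ j, FGA.intNum k X 2 ![_root_.ClSub.idealMod (N j), P] (Coh.structureModule X) = 0) :
    W4c5asymptcohfn.hhat k X 2 0 Q = (FGA.intNum k X 2 ![P, P] (Coh.structureModule X) : ℝ) ∧
      W4c5asymptcohfn.hhat k X 2 1 Q = -(FGA.intNum k X 2 ![LN, LN] (Coh.structureModule X) : ℝ) ∧
      W4c5asymptcohfn.hhat k X 2 2 Q = 0 := by
  obtain ⟨eQ⟩ := hQ
  obtain ⟨eN⟩ := hLNeq
  have hfin := Finite.cohFinite k X
  have hreg := NegDef.regular_of_smooth (k := k) (X := X)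
  have hI : ∀ j, PicF.IsInvertible (_root_.ClSub.idealMod (N j)) := fun j =>
    haveI := hint j
    Effective.isInvertible_idealMod
      (Curve.isEffCartier (X ↘ Spec (CommRingCat.of k)) hdim hreg (N j) (hNd j))
  have hQi : PicF.IsInvertible Q :=
    TensorMod.Invertible.isInvertible_of_iso eQ.symm (isInvertible_tensorMod hP hLN)
  have hpow : ∀ n : ℕ, hd k X (CohB1.tensorPow Q (n + 1)) 0 = hd k X (CohB1.tensorPow P (n + 1)) 0 ∧
      hd k X (CohB1.tensorPow Q (n + 1)) 2 ≤ hd k X (CohB1.tensorPow P (n + 1)) 2 := by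
    intro n
    obtain ⟨eM⟩ := MultiBound96.exists_pow_multiTwist O b (n + 1)
    obtain ⟨l, hl⟩ := exists_list N O hI hO (fun j => b j * (n + 1))
    obtain ⟨eW⟩ := hl (CohB1.tensorPow P (n + 1))
    have e : CohB1.tensorPow Q (n + 1) ≅ H2Vanish.W (CohB1.tensorPow P (n + 1)) (l.map N) :=
      Ample.Pow.powIso eQ _ ≪≫ Ample.Pow.powTensor _ _ _ ≪≫
        tensorIso (Iso.refl _) (Ample.Pow.powIso eN _ ≪≫ eM) ≪≫ eW.symm
    rw [hd_congr (k := k) e, hd_congr (k := k) e]
    refine hd_W_eq (k := k) hdim hreg N hint hNd hneg (isInvertible_tensorPow hP _) (fun j => ?_) _ l rfl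
    rw [IntNum.intNum_pair_comm, Hodge.intNum_pow_left hfin hdim hP (hI j) n,
      IntNum.intNum_pair_comm P, horth j, mul_zero]
  obtain ⟨hP0, hP2⟩ := tendsto_nef (k := k) hdim hA₀ hP hnef
  have h0 : Tendsto (nrm 2 fun m => hd k X (CohB1.tensorPow Q m) 0) atTop
      (𝓝 (FGA.intNum k X 2 ![P, P] (Coh.structureModule X) : ℝ)) := by
    refine hP0.congr' ?_
    filter_upwards [eventually_ge_atTop 1] with m hm
    obtain ⟨n, rfl⟩ : ∃ n, m = n + 1 := ⟨m - 1, by omega⟩
    unfold nrm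
    beta_reduce
    rw [(hpow n).1]
  have h2 : Tendsto (nrm 2 fun m => hd k X (CohB1.tensorPow Q m) 2) atTop (𝓝 0) := by
    refine squeeze_zero' (Eventually.of_forall fun m => nrm_nonneg _ _ m) ?_ hP2
    filter_upwards [eventually_ge_atTop 1] with m hm
    obtain ⟨n, rfl⟩ : ∃ n, m = n + 1 := ⟨m - 1, by omega⟩
    unfold nrm
    gcongr
    exact (hpow n).2
  have h1 : Tendsto (nrm 2 fun m => hd k X (CohB1.tensorPow Q m) 1) atTop
      (𝓝 ((FGA.intNum k X 2 ![P, P] (Coh.structureModule X) : ℝ) + 0 -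
        (FGA.intNum k X 2 ![Q, Q] (Coh.structureModule X) : ℝ))) :=
    ((h0.add h2).sub (tendsto_chi (k := k) hdim hA₀ hQi)).congr fun m => by ring
  have hPN : FGA.intNum k X 2 ![P, LN] (Coh.structureModule X) = 0 := by
    obtain ⟨l, hl⟩ := exists_list N O hI hO b
    obtain ⟨eW⟩ := hl (Coh.structureModule X)
    rw [IntNum.intNum_pair_comm, NegDef.intNum_congr_left (k := k) (eN ≪≫ (leftUnit _).symm ≪≫ eW.symm),
      H2Vanish.intNum_W (k := k) hdim H2Vanish.isInvertible_structure hP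
        (fun C hC => by obtain ⟨j, -, rfl⟩ := List.mem_map.mp hC; exact hI j),
      IntNum.intNum_pair, IntNum.sym_structure, List.map_map, List.sum_eq_zero, sub_zero]
    intro x hx
    obtain ⟨j, -, rfl⟩ := List.mem_map.mp hx
    exact horth j
  have hQQ : FGA.intNum k X 2 ![Q, Q] (Coh.structureModule X) =
      FGA.intNum k X 2 ![P, P] (Coh.structureModule X) +
        FGA.intNum k X 2 ![LN, LN] (Coh.structureModule X) := by
    have hO' := Twist.isCoh_structureModule X
    have hPL := isInvertible_tensorMod hP hLN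
    rw [NegDef.intNum_congr_left (k := k) eQ, IntNum.intNum_pair_comm,
      NegDef.intNum_congr_left (k := k) eQ,
      IntNum.intNum_pair_tensor_left hfin hdim.le hP hLN hPL hO',
      IntNum.intNum_pair_comm P (CohB1.tensorMod P LN), IntNum.intNum_pair_comm LN (CohB1.tensorMod P LN),
      IntNum.intNum_pair_tensor_left hfin hdim.le hP hLN hP hO',
      IntNum.intNum_pair_tensor_left hfin hdim.le hP hLN hLN hO', hPN,
      IntNum.intNum_pair_comm LN P, hPN]
    ring
  refine ⟨(hhat_eq 2 0 Q).trans h0.limsup_eq, ?_, (hhat_eq 2 2 Q).trans h2.limsup_eq⟩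
  rw [hhat_eq, h1.limsup_eq, hQQ]
  push_cast
  ring

end Groth.Agent.Lib.Zariski96
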