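import Groth.Agent.Lib.SurfInt.H2Vanish
import Groth.Agent.Lib.SurfInt.ConeForm
import Groth.Agent.Lib.MultiBound96.Basic
import Groth.Agent.Lib.MultiBound96.ZTwist
import Groth.Agent.Lib.Curves.Finiteness
import Groth.Agent.Lib.PosLin.CohBound
import Mathlib.LinearAlgebra.Matrix.PosDef

/-!
# Adding a negative definite configuration to a module orthogonal to it
-/

set_option autoImplicit false
set_option linter.style.haveILetI false
set_option linter.unusedSectionVars false
universe u

open CategoryTheory CategoryTheory.Limits AlgebraicGeometry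

namespace Groth.Agent.Lib.Zariski96

open Groth.Agent.Lib Groth.Agent.Lib.Modules Groth.Agent.Lib.Snapper Groth.Agent.Lib.PosLin
open Groth.Agent.Lib.PosLin.CohBound
open Groth.Agent.Lib.SurfInt
open Groth.Agent.Lib.SurfInt.H2Vanish (W W_append nonempty_W_iso nonempty_W_perm isInvertible_W
  cancelIso intNum_W)
open Groth.Agent.Lib.TensorMod.Basic (comm assoc tensorIso leftUnit rightUnit)
open Groth.Agent.Lib.TensorMod.Invertible (isInvertible_tensorPow isInvertible_tensorMod
  isInvertible_dual tensorDualIso)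
open Groth.Agent.Lib.Curves.LES (mapK isoK)

section Algebra

variable {X : Scheme.{u}}

/-- An inverse of an invertible module is the dual. -/
theorem nonempty_iso_dual {I O : X.Modules} (hI : PicF.IsInvertible I)
    (h : ClSub.IsInverseOf I O) : Nonempty (O ≅ TensorMod.Dual.dual I) := by
  obtain ⟨e⟩ := h
  exact ⟨(leftUnit O).symm ≪≫ tensorIso ((comm _ _ ≪≫ tensorDualIso hI).symm) (Iso.refl O) ≪≫
    assoc _ _ _ ≪≫ tensorIso (Iso.refl _) e ≪≫ rightUnit _⟩

theorem nonempty_W_replicate (L : X.Modules) {C : X.IdealSheafData} {O : X.Modules}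
    (e : O ≅ TensorMod.Dual.dual (_root_.ClSub.idealMod C)) :
    ∀ n : ℕ, Nonempty (W L (List.replicate n C) ≅ CohB1.tensorMod L (CohB1.tensorPow O n))
  | 0 => ⟨(rightUnit L).symm⟩
  | n + 1 => (nonempty_W_replicate L e n).map fun i =>
      tensorIso i e.symm ≪≫ assoc _ _ _

theorem nonempty_W_flatMap {ι : Type} (N : ι → X.IdealSheafData) (O : ι → X.Modules)
    (e : ∀ j, O j ≅ TensorMod.Dual.dual (_root_.ClSub.idealMod (N j))) (c : ι → ℕ) (B : X.Modules) :
    ∀ l : List ι, Nonempty (W B ((l.flatMap fun j => List.replicate (c j) j).map N) ≅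
      CohB1.tensorMod B (FGA.tensorList (l.map fun j => CohB1.tensorPow (O j) (c j))))
  | [] => ⟨(rightUnit B).symm⟩
  | j :: l => by
    obtain ⟨ih⟩ := nonempty_W_flatMap N O e c B l
    rw [List.flatMap_cons, List.map_append, W_append, List.map_replicate]
    obtain ⟨i⟩ := nonempty_W_iso ih (List.replicate (c j) (N j))
    obtain ⟨i'⟩ := nonempty_W_replicate
      (CohB1.tensorMod B (FGA.tensorList (l.map fun j => CohB1.tensorPow (O j) (c j)))) (e j) (c j)
    exact ⟨i ≪≫ i' ≪≫ assoc _ _ _ ≪≫ tensorIso (Iso.refl B) (comm _ _)⟩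

/-- Twisting by a multi-twist of inverses of ideals is adding a list of curves. -/
theorem exists_list {s : ℕ} (N : Fin s → X.IdealSheafData) (O : Fin s → X.Modules)
    (hI : ∀ j, PicF.IsInvertible (_root_.ClSub.idealMod (N j)))
    (hO : ∀ j, ClSub.IsInverseOf (_root_.ClSub.idealMod (N j)) (O j)) (c : Fin s → ℕ) :
    ∃ l : List (Fin s), ∀ B : X.Modules,
      Nonempty (W B (l.map N) ≅ CohB1.tensorMod B (FGA.multiTwist O c)) :=
  ⟨(List.finRange s).flatMap fun j => List.replicate (c j) j, fun B =>
    nonempty_W_flatMap N O (fun j => (nonempty_iso_dual (hI j) (hO j)).some) c B _⟩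

end Algebra

section Count

theorem exists_neg {s : ℕ} (G : Matrix (Fin s) (Fin s) ℤ) (hG : (-G).PosDef) (l : List (Fin s))
    (hl : l ≠ []) : ∃ j ∈ l, (l.map fun i => G i j).sum < 0 := by
  classical
  by_contra hc
  push Not at hc
  set x : Fin s → ℤ := fun j => (l.count j : ℤ)
  have hsum : ∀ (m : List (Fin s)) (f : Fin s → ℤ), (m.map f).sum = ∑ i, (m.count i : ℤ) * f i := by
    intro m f
    induction m with
    | nil => simp
    | cons a m ih =>
      simp [List.count_cons, ih, add_mul, Finset.sum_add_distrib, ite_mul, add_comm (f a)]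
  have hx : x ≠ 0 := by
    obtain ⟨a, ha⟩ := List.exists_mem_of_ne_nil l hl
    exact fun h => absurd (congrFun h a) (by simpa [x] using Nat.ne_of_gt (List.count_pos_iff.mpr ha))
  have h1 := (Matrix.posDef_iff_dotProduct_mulVec.mp hG).2 hx
  have h2 : 0 ≤ (l.map fun j => (l.map fun i => G i j).sum).sum :=
    List.sum_nonneg (by simpa [List.mem_map] using fun j hj => hc j hj)
  rw [hsum] at h2
  simp only [hsum] at h2
  have h3 : star x ⬝ᵥ ((-G).mulVec x) = - ∑ i, (l.count i : ℤ) * ∑ i', (l.count i' : ℤ) * G i' i := by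
    simp only [dotProduct, Matrix.mulVec, Matrix.neg_apply, star_trivial, neg_mul, Finset.sum_neg_distrib,
      Finset.mul_sum, mul_neg, x]
    rw [Finset.sum_comm]
    congr 1
    exact Finset.sum_congr rfl fun i _ => Finset.sum_congr rfl fun j _ => by ring
  rw [h3] at h1
  omega

end Count

variable {k : Type u} [Field k] {X : Scheme.{u}} [X.Over (Spec (CommRingCat.of k))]
  [IsIntegral X] [IsNoetherian X] [IsProper (X ↘ Spec (CommRingCat.of k))]
  (hdim : topologicalKrullDim X = 2)

include k hdim

/-- A module of negative degree on an integral curve has no sections there. -/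
theorem subsingleton_h0_quot (C : X.IdealSheafData) [IsIntegral C.subscheme]
    (hCd : topologicalKrullDim (C.support : Set X) = 1)
    (hI : PicF.IsInvertible (_root_.ClSub.idealMod C)) {M : X.Modules} (hM : PicF.IsInvertible M)
    (h : 0 < FGA.intNum k X 2 ![_root_.ClSub.idealMod C, M] (Coh.structureModule X)) :
    Subsingleton (Coh.HH X (CohB1.tensorMod M (_root_.ClSub.quotMod C)) 0) := by
  letI := Surface.overSub (k := k) C
  haveI : IsProper (C.subscheme ↘ Spec (CommRingCat.of k)) :=
    inferInstanceAs (IsProper (C.subschemeι ≫ (X ↘ Spec (CommRingCat.of k))))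
  haveI : IsLocallyNoetherian C.subscheme := LocallyOfFiniteType.isLocallyNoetherian C.subschemeι
  haveI : CompactSpace C.subscheme := QuasiCompact.compactSpace_of_compactSpace C.subschemeι
  haveI : IsNoetherian C.subscheme := ⟨⟩
  let P := (Scheme.Modules.pullback C.subschemeι).obj M
  have hP := PicLoc.isInvertible_pullback C.subschemeι hM
  have hCd' : topologicalKrullDim C.subscheme ≤ 1 := by rw [Surface.dim_subscheme, hCd]
  rw [Surface.intNum_ideal_eq_neg_deg (Finite.cohFinite k X) (d := 2) hdim.le hI hM] at h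
  haveI : Subsingleton (Coh.HH C.subscheme P 0) := not_nontrivial_iff_subsingleton.mp fun hn => by
    have := Curves.Positivity.deg_nonneg_of_nontrivial (k := k) hCd' hP
      (Curves.Finiteness.isGood_of_isCoh hCd' (Twist.isCoh_structureModule _))
      (Curves.Finiteness.isGood_of_isCoh hCd' (Ample.GG.isCoh_of_isInvertible hP)) hn
    linarith
  have hE := Modules.DualBasis.hasDBases_of_isFinLocFree
    (TensorMod.LocFree.of_rank (TensorMod.LocFree.of_isInvertible hM))
  have e' : CohB1.tensorMod M (_root_.ClSub.quotMod C) ≅ (Coh.push C.subschemeι).obj P :=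
    (Modules.ProjFormula.projIso C.subschemeι hE).app (Coh.structureModule C.subscheme) ≪≫
      (Coh.push C.subschemeι).mapIso (rightUnit P)
  haveI : P.IsQuasicoherent := TensorMod.QCohInv.isQCoh_of_isInvertible hP
  haveI : Subsingleton (Coh.HH X ((Coh.push C.subschemeι).obj P) 0) :=
    (ZarCoh.Morph.affineEquiv C.subschemeι P 0).toEquiv.subsingleton
  exact (isoK k e' 0).toEquiv.subsingleton

/-- Adding a curve on which the degree becomes negative. -/
theorem hd_add_curve (hreg : ∀ x : X, IsRegularLocalRing (X.presheaf.stalk x))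
    (C : X.IdealSheafData) [IsIntegral C.subscheme]
    (hCd : topologicalKrullDim (C.support : Set X) = 1) {V : X.Modules} (hV : PicF.IsInvertible V)
    (h : 0 < FGA.intNum k X 2
      ![_root_.ClSub.idealMod C, CohB1.tensorMod V (TensorMod.Dual.dual (_root_.ClSub.idealMod C))]
      (Coh.structureModule X)) :
    hd k X (CohB1.tensorMod V (TensorMod.Dual.dual (_root_.ClSub.idealMod C))) 0 = hd k X V 0 ∧
    hd k X (CohB1.tensorMod V (TensorMod.Dual.dual (_root_.ClSub.idealMod C))) 2 ≤ hd k X V 2 := by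
  have hD := Curve.isEffCartier (X ↘ Spec (CommRingCat.of k)) hdim hreg C hCd
  have hI := Effective.isInvertible_idealMod hD
  set M := CohB1.tensorMod V (TensorMod.Dual.dual (_root_.ClSub.idealMod C))
  have hM : PicF.IsInvertible M := isInvertible_tensorMod hV (isInvertible_dual hI)
  have hS := Twist.twistSeq_shortExact hM (ClSub.Quot.idealSeq_shortExact C)
  have h₁ : Coh.IsCoh (Twist.twistSeq M (ClSub.Quot.idealSeq C)).X₁ :=
    Twist.isCoh_twist hM (Ample.GG.isCoh_of_isInvertible hI)
  have h₂ : Coh.IsCoh (Twist.twistSeq M (ClSub.Quot.idealSeq C)).X₂ :=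
    Twist.isCoh_twist hM (Twist.isCoh_structureModule X)
  have h₃ : Coh.IsCoh (Twist.twistSeq M (ClSub.Quot.idealSeq C)).X₃ :=
    Twist.isCoh_twist hM (Effective.isCoh_quotMod C)
  have e1 : ∀ i, hd k X (Twist.twistSeq M (ClSub.Quot.idealSeq C)).X₁ i = hd k X V i :=
    fun i => hd_congr (k := k) (cancelIso V hI) i
  have e2 : ∀ i, hd k X (Twist.twistSeq M (ClSub.Quot.idealSeq C)).X₂ i = hd k X M i :=
    fun i => hd_congr (k := k) (rightUnit M) i
  haveI : Subsingleton (Coh.HH X (Twist.twistSeq M (ClSub.Quot.idealSeq C)).X₃ 0) :=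
    subsingleton_h0_quot (k := k) hdim C hCd hI hM h
  haveI : Subsingleton (Coh.HH X (Twist.twistSeq M (ClSub.Quot.idealSeq C)).X₃ 2) :=
    H2Basic.subsingleton_h2_quot (k := k) hdim hD hM
  have z0 : hd k X (Twist.twistSeq M (ClSub.Quot.idealSeq C)).X₃ 0 = 0 :=
    Module.finrank_zero_of_subsingleton
  have z2 : hd k X (Twist.twistSeq M (ClSub.Quot.idealSeq C)).X₃ 2 = 0 :=
    Module.finrank_zero_of_subsingleton
  have a0 := hd_mid_le (k := k) hS h₁ h₂ h₃ 0
  have a2 := hd_mid_le (k := k) hS h₁ h₂ h₃ 2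
  have b0 := hd_left_le (k := k) hS h₁ h₂ h₃ 0
  simp only [e1, e2, z0, z2, add_zero, Nat.zero_sub] at a0 a2 b0
  exact ⟨le_antisymm a0 b0, a2⟩

/-- **Adding a negative definite configuration orthogonal to `B`.** -/
theorem hd_W_eq (hreg : ∀ x : X, IsRegularLocalRing (X.presheaf.stalk x)) {s : ℕ}
    (N : Fin s → X.IdealSheafData)
    (hint : ∀ j, IsIntegral (N j).subscheme) (hNd : ∀ j, topologicalKrullDim ((N j).support : Set X) = 1)
    (hneg : (-(Matrix.of fun j l : Fin s =>
      FGA.intNum k X 2 ![_root_.ClSub.idealMod (N j), _root_.ClSub.idealMod (N l)]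
        (Coh.structureModule X))).PosDef)
    {B : X.Modules} (hB : PicF.IsInvertible B)
    (horth : ∀ j, FGA.intNum k X 2 ![_root_.ClSub.idealMod (N j), B] (Coh.structureModule X) = 0) :
    ∀ (n : ℕ) (l : List (Fin s)), l.length = n →
      hd k X (W B (l.map N)) 0 = hd k X B 0 ∧ hd k X (W B (l.map N)) 2 ≤ hd k X B 2
  | 0, l, hl => by rw [List.length_eq_zero_iff.mp hl]; exact ⟨rfl, le_rfl⟩
  | n + 1, l, hl => by
    classical
    have hI : ∀ j, PicF.IsInvertible (_root_.ClSub.idealMod (N j)) := fun j =>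
      haveI := hint j
      Effective.isInvertible_idealMod
        (Curve.isEffCartier (X ↘ Spec (CommRingCat.of k)) hdim hreg (N j) (hNd j))
    have hl' : ∀ m : List (Fin s), ∀ C ∈ m.map N, PicF.IsInvertible (_root_.ClSub.idealMod C) :=
      fun m C hC => by
        obtain ⟨j, -, rfl⟩ := List.mem_map.mp hC
        exact hI j
    obtain ⟨j, hj, hneg'⟩ := exists_neg _ hneg l (by intro h; simp [h] at hl)
    have hp : (l.map N).Perm (N j :: (l.erase j).map N) := (List.perm_cons_erase hj).map N
    obtain ⟨e⟩ := nonempty_W_perm B hp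
    have hpos : 0 < FGA.intNum k X 2 ![_root_.ClSub.idealMod (N j), W B (l.map N)]
        (Coh.structureModule X) := by
      rw [IntNum.intNum_pair_comm, intNum_W (k := k) hdim hB (hI j) (hl' l),
        IntNum.intNum_pair_comm B, horth j, List.map_map]
      simp only [Matrix.of_apply] at hneg'
      simpa [Function.comp_def] using hneg'
    have hn : (l.erase j).length = n := by rw [List.length_erase_of_mem hj, hl]; omega
    obtain ⟨ih0, ih2⟩ := hd_W_eq hreg N hint hNd hneg hB horth n _ hn
    have hinv := isInvertible_W hB (hl' (l.erase j))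
    rw [IntNum.intNum_pair_comm,
      NegDef.intNum_congr_left (k := k) e, IntNum.intNum_pair_comm] at hpos
    haveI := hint j
    obtain ⟨h0, h2⟩ := hd_add_curve (k := k) hdim hreg (N j) (hNd j) hinv hpos
    rw [hd_congr (k := k) e, hd_congr (k := k) e]
    exact ⟨h0.trans ih0, h2.trans ih2⟩

end Groth.Agent.Lib.Zariski96
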